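import Groth.Agent.Crv77.Sections
import Groth.Agent.Crv77.Degree
import Groth.Agent.Coh69.AffinePush
import Groth.Agent.Serre71.Finite
import Groth.Agent.QC70.CohOps

/-!
`H¹(Y, f_* M) → H¹(X, M)` is injective: the dimension version for `M = O`.
-/

set_option autoImplicit false
set_option backward.isDefEq.respectTransparency.types false
set_option linter.style.haveILetI false

noncomputable section

universe u

open CategoryTheory CategoryTheory.Limits AlgebraicGeometry TopologicalSpace Opposite

namespace Groth.Agent.H1Push72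

variable (k : Type u) [Field k] {X Y : Scheme.{u}}
  [X.Over (Spec (CommRingCat.of k))] [Y.Over (Spec (CommRingCat.of k))]

/-- Degree zero cohomology of a direct image, linearly. -/
def h0Push (f : X ⟶ Y) (hf : f ≫ (Y ↘ Spec (CommRingCat.of k)) = X ↘ Spec (CommRingCat.of k))
    (N : X.Modules) :
    Coh.HH Y ((Scheme.Modules.pushforward f).obj N) 0 ≃ₗ[k] Coh.HH X N 0 :=
  { ((Crv77.sec ((Scheme.Modules.pushforward f).obj N)).trans
      (show Γ((Scheme.Modules.pushforward f).obj N, ⊤) ≃+ Coh.HH X N 0 from (Crv77.sec N).symm)) with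
    map_smul' := fun a x => by
      apply (Crv77.sec N).injective
      refine ((Crv77.sec N).apply_symm_apply _).trans ?_
      refine (Crv77.sec_smul k _ a x).trans (Eq.trans ?_ (Crv77.sec_smul k N a _).symm)
      refine congrArg₂ (fun (r : Γ(X, ⊤)) (m : Γ(N, ⊤)) => r • m) ?_ ((Crv77.sec N).apply_symm_apply _).symm
      show f.appTop (Coh.toGlobal (Y ↘ Spec (CommRingCat.of k)) a) =
        Coh.toGlobal (X ↘ Spec (CommRingCat.of k)) a
      rw [← hf]
      rfl }

theorem h0Push_hmap (f : X ⟶ Y) (hf : f ≫ (Y ↘ Spec (CommRingCat.of k)) = X ↘ Spec (CommRingCat.of k))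
    {M N : X.Modules} (g : M ⟶ N) (x : Coh.HH Y ((Scheme.Modules.pushforward f).obj M) 0) :
    h0Push k f hf N (Crv77.hmap k ((Scheme.Modules.pushforward f).map g) 0 x) =
      Crv77.hmap k g 0 (h0Push k f hf M x) := by
  apply (Crv77.sec N).injective
  refine ((Crv77.sec N).apply_symm_apply _).trans ((Crv77.sec_hmap k _ x).trans ?_)
  refine Eq.trans ?_ (Crv77.sec_hmap k g _).symm
  exact (congrArg (fun m => g.app ⊤ m) ((Crv77.sec M).apply_symm_apply _)).symm

/-- Kernel comparison turned into an inequality of dimensions. -/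
theorem finrank_le_of_ker_le {V W W' : Type u} [AddCommGroup V] [Module k V] [AddCommGroup W]
    [Module k W] [AddCommGroup W'] [Module k W'] [Module.Finite k W'] (δ : V →ₗ[k] W)
    (hδ : Function.Surjective δ) (Φ : V →ₗ[k] W') (h : LinearMap.ker Φ ≤ LinearMap.ker δ) :
    Module.finrank k W ≤ Module.finrank k W' := by
  have := Module.Finite.of_injective _
    (LinearMap.ker_eq_bot.1 (Submodule.ker_liftQ_eq_bot _ Φ le_rfl le_rfl))
  let g : (V ⧸ LinearMap.ker Φ) →ₗ[k] W := Submodule.liftQ _ δ h
  have hg : Function.Surjective g := fun w => by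
    obtain ⟨v, rfl⟩ := hδ w
    exact ⟨Submodule.Quotient.mk v, rfl⟩
  exact (LinearMap.finrank_le_finrank_of_injective (LinearMap.ker_eq_bot.1
    (Submodule.ker_liftQ_eq_bot _ Φ le_rfl le_rfl))).trans' (LinearMap.finrank_le_finrank_of_surjective hg)

/-- The comparison, from an embedding of the source into a module with acyclic direct image. -/
theorem finrank_le_of_mono (f : X ⟶ Y) (hf : f ≫ (Y ↘ Spec (CommRingCat.of k)) = X ↘ Spec (CommRingCat.of k))
    (A B : X.Modules) [Module.Finite k (Coh.HH X A 1)] (ι : A ⟶ B) [Mono ι]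
    (hB : Subsingleton (Coh.HH Y ((Scheme.Modules.pushforward f).obj B) 1)) :
    Module.finrank k (Coh.HH Y ((Scheme.Modules.pushforward f).obj A) 1) ≤
      Module.finrank k (Coh.HH X A 1) := by
  let F := Scheme.Modules.pushforward f
  haveI := (Scheme.Modules.pullbackPushforwardAdjunction f).rightAdjoint_preservesLimits
  haveI : Mono (F.map ι) := F.map_mono ι
  let S := ShortComplex.mk ι (cokernel.π ι) (cokernel.condition ι)
  have hS : S.ShortExact := ShortComplex.ShortExact.mk' (ShortComplex.exact_cokernel ι) inferInstance inferInstance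
  let T := ShortComplex.mk (F.map ι) (cokernel.π (F.map ι)) (cokernel.condition _)
  have hT : T.ShortExact :=
    ShortComplex.ShortExact.mk' (ShortComplex.exact_cokernel _) inferInstance inferInstance
  let v : cokernel (F.map ι) ⟶ F.obj (cokernel ι) :=
    cokernel.desc _ (F.map (cokernel.π ι)) (by rw [← F.map_comp, cokernel.condition, F.map_zero])
  haveI hv : Mono v := by
    have hex : (ShortComplex.mk (F.map ι) (F.map (cokernel.π ι))
        (by rw [← F.map_comp, cokernel.condition, F.map_zero])).Exact :=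
      hS.exact.map_of_mono_of_preservesKernel F inferInstance inferInstance
    exact hex.mono_cokernelDesc
  have hv0 : Function.Injective (Crv77.hmap k v 0) := by
    exact Crv77.injective_f_zero k (S := ShortComplex.mk v (cokernel.π v) (cokernel.condition v))
      (ShortComplex.ShortExact.mk' (ShortComplex.exact_cokernel _) inferInstance inferInstance)
  have hsurj : Function.Surjective (Crv77.hδ k hT 0) := fun y =>
    (Crv77.exact_δ_f k hT 0 y).1 (hB.elim _ _)
  refine finrank_le_of_ker_le k (Crv77.hδ k hT 0) hsurj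
    ((Crv77.hδ k hS 0).comp ((h0Push k f hf (cokernel ι)).toLinearMap.comp (Crv77.hmap k v 0))) ?_
  intro x hx
  obtain ⟨m, hm⟩ := (Crv77.exact_g_δ k hS 0 _).1 hx
  obtain ⟨m', rfl⟩ := (h0Push k f hf B).surjective m
  have h1 : Crv77.hmap k v 0 x =
      Crv77.hmap k (F.map (cokernel.π ι)) 0 m' := by
    apply (h0Push k f hf (cokernel ι)).injective
    exact hm.symm.trans (h0Push_hmap k f hf (cokernel.π ι) m').symm
  have h2 : x = Crv77.hmap k (cokernel.π (F.map ι)) 0 m' := by
    apply hv0
    rw [h1, Crv77.hmap_comp k, show cokernel.π (F.map ι) ≫ v = F.map (cokernel.π ι) from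
      cokernel.π_desc _ _ _]
  exact (Crv77.exact_g_δ k hT 0 x).2 ⟨m', h2.symm⟩

/-- The unit section maps. -/
def pushUnit (f : X ⟶ Y) : Coh.structureModule Y ⟶
    (Scheme.Modules.pushforward f).obj (Coh.structureModule X) :=
  EGA73.unitHom _ (1 : Γ(X, f ⁻¹ᵁ ⊤))

theorem pushUnit_app (f : X ⟶ Y) (V : Y.Opens) (c : Γ(Y, V)) :
    (pushUnit f).app V c = f.app V c := by
  refine (EGA73.unitHom_app _ _ V c).trans ?_
  show f.app V c * (show Γ(X, f ⁻¹ᵁ V) from
    X.presheaf.map ((Opens.map f.base).op.map (homOfLE (le_top (a := V))).op) (1 : Γ(X, f ⁻¹ᵁ ⊤))) = f.app V c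
  exact (congrArg (fun r : Γ(X, f ⁻¹ᵁ V) => f.app V c * r) (map_one _)).trans (mul_one _)

theorem mono_pushUnit (f : X ⟶ Y) (h : ∀ V : Y.Opens, Function.Injective (f.app V)) :
    Mono (pushUnit f) := by
  refine Preadditive.mono_of_cancel_zero _ fun {N} g hg => ?_
  ext W z
  apply h W
  refine Eq.trans ?_ (map_zero (f.app W).hom).symm
  rw [← pushUnit_app]
  exact congr((Scheme.Modules.Hom.app $hg W) z)

/-- Surjective flat morphisms are injective on sections. -/
theorem injective_app_of_flat (π : X ⟶ Y) [Flat π] [Surjective π] (V : Y.Opens) :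
    Function.Injective (π.app V) := by
  rw [injective_iff_map_eq_zero]
  intro s hs
  refine TopCat.Presheaf.section_ext Y.sheaf V s 0 fun y hy => ?_
  obtain ⟨x, rfl⟩ := π.surjective y
  have hflat : (π.stalkMap x).hom.Flat := Flat.stalkMap π x
  algebraize [(π.stalkMap x).hom]
  haveI : IsLocalHom (algebraMap (Y.presheaf.stalk (π x)) (X.presheaf.stalk x)) :=
    inferInstanceAs (IsLocalHom (π.stalkMap x).hom)
  haveI : Module.FaithfullyFlat (Y.presheaf.stalk (π x)) (X.presheaf.stalk x) :=
    Module.FaithfullyFlat.of_flat_of_isLocalHom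
  apply FaithfulSMul.algebraMap_injective (Y.presheaf.stalk (π x)) (X.presheaf.stalk x)
  show π.stalkMap x (Y.presheaf.germ V _ hy s) = π.stalkMap x (Y.presheaf.germ V _ hy 0)
  rw [Scheme.Hom.germ_stalkMap_apply, hs, map_zero, map_zero, map_zero]

/-- A fibration induces an injection on first cohomology of structure sheaves. -/
theorem finrank_H1_le [IsProper (X ↘ Spec (CommRingCat.of k))] [IsProper (Y ↘ Spec (CommRingCat.of k))]
    (f : X ⟶ Y) (hf : f ≫ (Y ↘ Spec (CommRingCat.of k)) = X ↘ Spec (CommRingCat.of k))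
    (hfib : ∀ V : Y.Opens, IsIso (f.app V)) :
    Module.finrank k (Coh.HH Y (Coh.structureModule Y) 1) ≤
      Module.finrank k (Coh.HH X (Coh.structureModule X) 1) := by
  haveI : IsLocallyNoetherian X := LocallyOfFiniteType.isLocallyNoetherian (X ↘ Spec (CommRingCat.of k))
  haveI : CompactSpace X := QuasiCompact.compactSpace_of_compactSpace (X ↘ Spec (CommRingCat.of k))
  haveI : Y.IsSeparated := ⟨by rw [← terminal.comp_from (Y ↘ Spec (CommRingCat.of k))]; infer_instance⟩
  haveI := Serre71.finite_hh_of_isProper k (Coh.structureModule X) Crv77.isCoh_structureModule 1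
  haveI : IsIso (pushUnit f) := by
    haveI : ∀ V : Y.Opens, IsIso ((pushUnit f).app V) := fun V => by
      refine (ConcreteCategory.isIso_iff_bijective _).2 ?_
      rw [show ((pushUnit f).app V : Γ(Coh.structureModule Y, V) → _) = f.app V from
        funext (pushUnit_app f V)]
      exact (ConcreteCategory.isIso_iff_bijective _).1 (hfib V)
    exact Scheme.Modules.Hom.isIso_iff_isIso_app.2 inferInstance
  rw [LinearEquiv.finrank_eq (Crv77.hEquiv k (asIso (pushUnit f)) 1)]
  let 𝒰 := X.affineCover.finiteSubcover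
  let π : (∐ fun i => 𝒰.X i) ⟶ X := Sigma.desc fun i => 𝒰.f i
  haveI : Flat π := IsZariskiLocalAtSource.of_openCover (sigmaOpenCover _) fun i => by
    show Flat (Sigma.ι (fun i => 𝒰.X i) i ≫ Sigma.desc fun i => 𝒰.f i)
    rw [Sigma.ι_desc]
    infer_instance
  haveI : Surjective π := ⟨fun x => by
    obtain ⟨i, z, hz⟩ := 𝒰.exists_eq x
    exact ⟨Sigma.ι (fun i => 𝒰.X i) i z, by
      rw [← Scheme.Hom.comp_apply, Sigma.ι_desc]; exact hz⟩⟩
  haveI := mono_pushUnit π (injective_app_of_flat π)
  refine finrank_le_of_mono k f hf _ _ (pushUnit π) ?_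
  haveI : IsAffineHom ((π ≫ f) ≫ (Y ↘ Spec (CommRingCat.of k))) := isAffineHom_of_isAffine _
  haveI : IsAffineHom (π ≫ f) := IsAffineHom.of_comp (π ≫ f) (Y ↘ Spec (CommRingCat.of k))
  obtain ⟨e⟩ := Coh69.nonempty_hh_push (π ≫ f) (Coh.structureModule (∐ fun i => 𝒰.X i)) 1
  haveI := Coh69.qcoh_subsingleton_HH (Coh.structureModule (∐ fun i => 𝒰.X i)) 0
  exact e.symm.toEquiv.subsingleton

end Groth.Agent.H1Push72
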